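import Mathlib
import Cfsg.Agent.Lib.Components.NaturalSL2

/-!
# The natural SL₂-module as a vector space over the prime field

`SL₂(F)` inside the group of `ZMod p`-linear automorphisms of `F²`, its upper unitriangular group, and the
normalizer of that group inside a `p`-subgroup normalizing `SL₂(F)`: it acts by field automorphisms.
-/

set_option autoImplicit false
set_option linter.unusedSectionVars false

namespace Cfsg.Agent.NatSL2Sylow

open Matrix
open Cfsg.Agent.Components.NaturalSL2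

variable {p : ℕ} {F : Type} [Field F] [Algebra (ZMod p) F]

/-- The group of `ZMod p`-linear automorphisms of `F²`. -/
abbrev Aut2 (p : ℕ) (F : Type) [Field F] [Algebra (ZMod p) F] :=
  (Fin 2 → F) ≃ₗ[ZMod p] (Fin 2 → F)

/-- The action of `SL₂(F)` on `F²`. -/
def lin : SL F →* Aut2 p F where
  toFun A := (SpecialLinearGroup.toLin' A).restrictScalars (ZMod p)
  map_one' := by ext v i; simp
  map_mul' A B := by
    apply LinearEquiv.ext
    intro v
    show (SpecialLinearGroup.toLin' (A * B)) v = _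
    rw [map_mul]
    rfl

theorem lin_apply (A : SL F) (v : Fin 2 → F) : (lin (p := p) A) v = A.1 *ᵥ v := rfl

theorem lin_injective : Function.Injective (lin (p := p) (F := F)) := by
  intro A B h
  refine Subtype.ext (Matrix.toLin'.injective (LinearMap.ext fun v => ?_))
  exact LinearEquiv.congr_fun h v

/-- The translation `(x, y) ↦ (x + a y, y)`. -/
def t (p : ℕ) {F : Type} [Field F] [Algebra (ZMod p) F] (a : F) : Aut2 p F := lin (uni a)

theorem t_apply (a : F) (v : Fin 2 → F) : t p a v = ![v 0 + a * v 1, v 1] := uni_mulVec a v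

theorem t_mul (a b : F) : t p a * t p b = t p (a + b) := by rw [t, t, ← map_mul, uni_mul]; rfl

theorem t_zero : t p (0 : F) = 1 := by rw [t, uni_zero, map_one]

theorem t_injective : Function.Injective (t p (F := F)) := by
  intro a b h
  have := congrFun (LinearEquiv.congr_fun h ![0, 1]) 0
  simpa [t_apply] using this

/-- The upper unitriangular group. -/
def T (p : ℕ) (F : Type) [Field F] [Algebra (ZMod p) F] : Subgroup (Aut2 p F) :=
  (unip F).map lin

theorem mem_T {g : Aut2 p F} : g ∈ T p F ↔ ∃ a, t p a = g := by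
  constructor
  · rintro ⟨_, ⟨a, rfl⟩, rfl⟩
    exact ⟨a, rfl⟩
  · rintro ⟨a, rfl⟩
    exact ⟨_, ⟨a, rfl⟩, rfl⟩

theorem t_mem (a : F) : t p a ∈ T p F := mem_T.2 ⟨a, rfl⟩

theorem T_le : T p F ≤ (lin (p := p) (F := F)).range := by
  rintro g ⟨A, -, rfl⟩
  exact ⟨A, rfl⟩

theorem card_T [Finite F] : Nat.card (T p F) = Nat.card F :=
  (Nat.card_congr (Equiv.ofBijective (fun a : F => (⟨t p a, t_mem a⟩ : T p F))
    ⟨fun a b h => t_injective (congrArg Subtype.val h),
      fun ⟨g, hg⟩ => by obtain ⟨a, rfl⟩ := mem_T.1 hg; exact ⟨a, rfl⟩⟩)).symm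

theorem T_comm {g h : Aut2 p F} (hg : g ∈ T p F) (hh : h ∈ T p F) : g * h = h * g := by
  obtain ⟨a, rfl⟩ := mem_T.1 hg
  obtain ⟨b, rfl⟩ := mem_T.1 hh
  rw [t_mul, t_mul, add_comm]

/-- The fixed line of `T`. -/
def W0 : Set (Fin 2 → F) := {v | v 1 = 0}

theorem mem_W0 {v : Fin 2 → F} : v ∈ W0 ↔ v 1 = 0 := Iff.rfl

theorem fix_t {a : F} (ha : a ≠ 0) {v : Fin 2 → F} : t p a v = v ↔ v ∈ W0 := by
  constructor
  · intro h
    have := congrFun h 0
    simpa [t_apply, ha, mem_W0] using this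
  · intro h
    ext i; fin_cases i <;> simp [t_apply, mem_W0.1 h]

theorem t_pow (a : F) (k : ℕ) : t p a ^ k = t p (k * a) := by
  induction k with
  | zero => rw [pow_zero, Nat.cast_zero, zero_mul, t_zero]
  | succ k ih => rw [pow_succ, ih, t_mul, Nat.cast_succ, add_mul, one_mul]

theorem T_pow [CharP F p] {g : Aut2 p F} (hg : g ∈ T p F) : g ^ p = 1 := by
  obtain ⟨a, rfl⟩ := mem_T.1 hg
  rw [t_pow, CharP.cast_eq_zero, zero_mul, t_zero]

/-- `SL₂` is generated by the conjugates of `T`. -/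
theorem lin_le {H : Subgroup (Aut2 p F)} (hu : ∀ a, t p a ∈ H)
    (hl : ∀ a : F, lin (⟨!![1, 0; a, 1], by simp [Matrix.det_fin_two]⟩ : SL F) ∈ H) :
    (lin (p := p) (F := F)).range ≤ H := by
  let low : F → SL F := fun a => ⟨!![1, 0; a, 1], by simp [Matrix.det_fin_two]⟩
  have key : ∀ A : SL F, A.1 1 0 ≠ 0 → lin (p := p) A ∈ H := by
    intro A hc
    have e : A = uni ((A.1 0 0 - 1) / A.1 1 0) * low (A.1 1 0) * uni ((A.1 1 1 - 1) / A.1 1 0) := by
      have hd := A.2
      rw [Matrix.det_fin_two] at hd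
      apply Subtype.ext
      show A.1 = (uni ((A.1 0 0 - 1) / A.1 1 0)).1 * (low (A.1 1 0)).1 * (uni ((A.1 1 1 - 1) / A.1 1 0)).1
      ext i j
      fin_cases i <;> fin_cases j <;>
        simp [uni, low, Matrix.mul_apply, Fin.sum_univ_two] <;> field_simp <;> grind
    rw [e, map_mul, map_mul]
    exact mul_mem (mul_mem (hu _) (hl _)) (hu _)
  rintro _ ⟨A, rfl⟩
  by_cases hc : A.1 1 0 = 0
  · have hd := A.2
    rw [Matrix.det_fin_two, hc, mul_zero, sub_zero] at hd
    have h00 : A.1 0 0 ≠ 0 := fun e => by rw [e, zero_mul] at hd; exact zero_ne_one hd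
    have h1 : lin (p := p) (low 1 * A) ∈ H := key _ (by
      show ((low 1).1 * A.1) 1 0 ≠ 0
      simp [low, Matrix.mul_apply, Fin.sum_univ_two, hc, h00])
    rw [map_mul] at h1
    exact (mul_mem_cancel_left (hl 1)).1 h1
  · exact key A hc

/-- The permutation `(x, y) ↦ (-y, x)`. -/
def w : SL F := ⟨!![0, -1; 1, 0], by simp [Matrix.det_fin_two]⟩

theorem low_mem_conj (a : F) :
    lin (p := p) (⟨!![1, 0; a, 1], by simp [Matrix.det_fin_two]⟩ : SL F) =
      lin w * t p (-a) * (lin w)⁻¹ := by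
  rw [t, ← map_inv, ← map_mul, ← map_mul]
  congr 1
  apply Subtype.ext
  show _ = w.1 * (uni (-a)).1 * w.1.adjugate
  ext i j
  fin_cases i <;> fin_cases j <;> simp [w, uni, Matrix.mul_apply, Fin.sum_univ_two, Matrix.adjugate_fin_two]

end Cfsg.Agent.NatSL2Sylow
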