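import Cfsg.Agent.Lib.NatSL2Sylow.Basic

/-!
# Normalizers of the unitriangular group act by field automorphisms
-/

set_option autoImplicit false
set_option linter.unusedSectionVars false
set_option linter.style.haveILetI false

namespace Cfsg.Agent.NatSL2Sylow

open Matrix
open Cfsg.Agent.Components.NaturalSL2

variable {p : ℕ} [Fact p.Prime] {F : Type} [Field F] [Finite F] [Algebra (ZMod p) F]

/-- The elements normalizing `SL₂(F)` and its unitriangular group. -/
def NT (p : ℕ) (F : Type) [Field F] [Algebra (ZMod p) F] : Subgroup (Aut2 p F) :=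
  Subgroup.normalizer ((lin (p := p) (F := F)).range : Set (Aut2 p F)) ⊓
    Subgroup.normalizer (T p F : Set (Aut2 p F))

/-- The coordinate of `n` on the fixed line. -/
def omega (n : Aut2 p F) (x : F) : F := n ![x, 0] 0

/-- The coordinate of `n` on the quotient by the fixed line. -/
def nu (n : Aut2 p F) (y : F) : F := n ![0, y] 1

theorem conj_t {n : Aut2 p F} (hn : n ∈ NT p F) (a : F) : ∃ a', n * t p a * n⁻¹ = t p a' := by
  obtain ⟨a', ha'⟩ := mem_T.1 ((Subgroup.mem_normalizer_iff.1 hn.2 _).1 (t_mem a))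
  exact ⟨a', ha'.symm⟩

theorem conj_t_ne {n : Aut2 p F} {a a' : F} (ha : a ≠ 0) (h : n * t p a * n⁻¹ = t p a') : a' ≠ 0 := by
  rintro rfl
  rw [t_zero, conj_eq_one_iff, ← t_zero] at h
  exact ha (t_injective h)

theorem map_W0 {n : Aut2 p F} (hn : n ∈ NT p F) {v : Fin 2 → F} (hv : v ∈ W0) : n v ∈ W0 := by
  obtain ⟨a', ha'⟩ := conj_t hn 1
  refine (fix_t (p := p) (conj_t_ne one_ne_zero ha')).1 ?_
  rw [← ha']
  show n (t p 1 (n.symm (n v))) = n v
  rw [LinearEquiv.symm_apply_apply, (fix_t one_ne_zero).2 hv]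

theorem apply_fst {n : Aut2 p F} (hn : n ∈ NT p F) (x : F) : n ![x, 0] = ![omega n x, 0] := by
  ext i
  fin_cases i
  · rfl
  · exact map_W0 hn (show (![x, 0] : Fin 2 → F) ∈ W0 from rfl)

theorem omega_mul {n m : Aut2 p F} (hm : m ∈ NT p F) (x : F) :
    omega (n * m) x = omega n (omega m x) := by
  show n (m ![x, 0]) 0 = _
  rw [apply_fst hm]
  rfl

theorem nu_mul {n m : Aut2 p F} (hn : n ∈ NT p F) (y : F) : nu (n * m) y = nu n (nu m y) := by
  show n (m ![0, y]) 1 = _
  have e : m ![0, y] = ![m ![0, y] 0, 0] + ![0, nu m y] := by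
    ext i; fin_cases i <;> simp [nu]
  rw [e, map_add, apply_fst hn]
  simp [nu]

theorem omega_add (n : Aut2 p F) (x y : F) : omega n (x + y) = omega n x + omega n y := by
  show n ![x + y, 0] 0 = _
  rw [show (![x + y, 0] : Fin 2 → F) = ![x, 0] + ![y, 0] by ext i; fin_cases i <;> simp, map_add]
  rfl

theorem omega_injective {n : Aut2 p F} (hn : n ∈ NT p F) : Function.Injective (omega n) := by
  intro x y h
  have : n ![x, 0] = n ![y, 0] := by rw [apply_fst hn, apply_fst hn, h]
  simpa using congrFun (n.injective this) 0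

theorem omega_one_ne {n : Aut2 p F} (hn : n ∈ NT p F) : omega n 1 ≠ 0 := by
  intro h
  refine one_ne_zero (omega_injective hn (h.trans ?_))
  show (0 : F) = n ![0, 0] 0
  rw [show (![0, 0] : Fin 2 → F) = 0 by ext i; fin_cases i <;> simp, map_zero]
  rfl

theorem omega_theta {n : Aut2 p F} (hn : n ∈ NT p F) {a a' : F} (h : n * t p a * n⁻¹ = t p a')
    (y : F) : omega n (a * y) = a' * nu n y := by
  have e : n (t p a ![0, y]) = t p a' (n ![0, y]) := by
    rw [← h]
    show n (t p a ![0, y]) = n (t p a (n.symm (n ![0, y])))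
    rw [LinearEquiv.symm_apply_apply]
  rw [show t p a ![0, y] = ![a * y, 0] + ![0, y] by ext i; fin_cases i <;> simp [t_apply], map_add,
    apply_fst hn] at e
  have := congrFun e 0
  simp [t_apply] at this
  rw [add_comm] at this
  exact add_left_cancel this

theorem omega_mul_mul {n : Aut2 p F} (hn : n ∈ NT p F) (a b : F) :
    omega n (a * b) * omega n 1 = omega n a * omega n b := by
  obtain ⟨a', ha⟩ := conj_t hn a
  obtain ⟨o', ho⟩ := conj_t hn 1
  have h1 := omega_theta hn ha b
  have h2 : omega n a = a' * nu n 1 := by have := omega_theta hn ha 1; rwa [mul_one] at this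
  have h3 : omega n b = o' * nu n b := by have := omega_theta hn ho b; rwa [one_mul] at this
  have h4 : omega n 1 = o' * nu n 1 := by have := omega_theta hn ho 1; rwa [one_mul] at this
  rw [h1, h2, h3, h4]
  ring

/-- The field automorphism attached to an element of `NT`. -/
noncomputable def autRingHom (n : NT p F) : F →+* F where
  toFun x := omega (n : Aut2 p F) x / omega (n : Aut2 p F) 1
  map_one' := div_self (omega_one_ne n.2)
  map_mul' a b := by
    have h := omega_mul_mul n.2 a b
    have h1 := omega_one_ne n.2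
    field_simp
    linear_combination h
  map_zero' := by
    have := omega_add (n : Aut2 p F) 0 0
    rw [add_zero] at this
    rw [left_eq_add.1 this, zero_div]
  map_add' a b := by rw [omega_add, add_div]

/-- The homomorphism from `NT` to the Galois group. -/
noncomputable def galHom : NT p F →* (F ≃ₐ[ZMod p] F) :=
  MonoidHom.mk' (fun n => AlgEquiv.ofRingEquiv (R := ZMod p)
      (f := RingEquiv.ofBijective (autRingHom n) (Finite.injective_iff_bijective.1 (autRingHom n).injective))
      fun x => by
        show ((autRingHom n).comp (algebraMap (ZMod p) F)) x = algebraMap (ZMod p) F x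
        rw [RingHom.ext_zmod ((autRingHom n).comp (algebraMap (ZMod p) F)) (algebraMap (ZMod p) F)])
    fun n m => by
      apply AlgEquiv.ext
      intro x
      show omega ((n : Aut2 p F) * (m : Aut2 p F)) x / omega ((n : Aut2 p F) * (m : Aut2 p F)) 1 =
        omega (n : Aut2 p F) (omega (m : Aut2 p F) x / omega (m : Aut2 p F) 1) / omega (n : Aut2 p F) 1
      rw [omega_mul m.2, omega_mul m.2]
      have h := omega_mul_mul n.2 (omega (m : Aut2 p F) x / omega (m : Aut2 p F) 1)
        (omega (m : Aut2 p F) 1)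
      rw [div_mul_cancel₀ _ (omega_one_ne m.2)] at h
      have h1 := omega_one_ne n.2
      have h2 : omega (n : Aut2 p F) (omega (m : Aut2 p F) 1) ≠ 0 := by
        rw [← omega_mul m.2]; exact omega_one_ne (mul_mem n.2 m.2)
      field_simp
      linear_combination h

theorem galHom_apply (n : NT p F) (x : F) :
    galHom n x = omega (n : Aut2 p F) x / omega (n : Aut2 p F) 1 := rfl

theorem card_gal : Nat.card (F ≃ₐ[ZMod p] F) = Module.finrank (ZMod p) F :=
  IsGalois.card_aut_eq_finrank _ _

/-- The kernel on a `p`-element is contained in `T`. -/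
theorem mem_T_of_galHom (n : NT p F) (hp : ∃ k, (n : Aut2 p F) ^ p ^ k = 1) (h : galHom n = 1) :
    (n : Aut2 p F) ∈ T p F := by
  obtain ⟨k, hk⟩ := hp
  haveI : CharP F p := charP_of_injective_algebraMap (algebraMap (ZMod p) F).injective p
  set m := (n : Aut2 p F) with hm
  have hn : m ∈ NT p F := n.2
  have homega : ∀ x, omega m x = omega m 1 * x := fun x => by
    have := AlgEquiv.congr_fun h x
    rw [galHom_apply, ← hm, AlgEquiv.one_apply, div_eq_iff (omega_one_ne hn)] at this
    rw [this, mul_comm]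
  obtain ⟨o', ho⟩ := conj_t hn 1
  have hnu : ∀ y, nu m y = nu m 1 * y := fun y => by
    have h1 := omega_theta hn ho y
    have h2 := omega_theta hn ho 1
    rw [one_mul] at h1
    rw [mul_one] at h2
    rw [homega y, h2] at h1
    rw [mul_assoc] at h1
    exact (mul_left_cancel₀ (conj_t_ne one_ne_zero ho) h1).symm
  have hpow : ∀ j : ℕ, omega (m ^ j) 1 = omega m 1 ^ j ∧ nu (m ^ j) 1 = nu m 1 ^ j := by
    intro j
    induction j with
    | zero => exact ⟨by simp [omega], by simp [nu]⟩
    | succ j ih =>
      rw [pow_succ' m]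
      exact ⟨by rw [omega_mul (pow_mem hn j), homega, ih.1, pow_succ'],
        by rw [nu_mul hn, hnu, ih.2, pow_succ']⟩
  obtain ⟨e1, e2⟩ := hpow (p ^ k)
  rw [hk] at e1 e2
  have hfro : Function.Injective (iterateFrobenius F p k) := (iterateFrobenius F p k).injective
  have f1 : omega m 1 = 1 := hfro (by rw [map_one, iterateFrobenius_def, ← e1]; simp [omega])
  have f2 : nu m 1 = 1 := hfro (by rw [map_one, iterateFrobenius_def, ← e2]; simp [nu])
  have hW : ∀ x : F, m ![x, 0] = ![x, 0] := fun x => by
    rw [apply_fst hn, homega, f1, one_mul]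
  -- the off-diagonal part is linear as `m` normalizes `SL₂`
  obtain ⟨B, hB⟩ := (Subgroup.mem_normalizer_iff.1 hn.1 (lin w)).1 ⟨w, rfl⟩
  have hlin : ∀ x : F, m ![0, x] = x • m ![0, 1] := by
    intro x
    have key : ∀ x : F, B.1 *ᵥ ![x, 0] = m ![0, x] := by
      intro x
      rw [← lin_apply (p := p), hB]
      show m ((lin (p := p) w) (m.symm ![x, 0])) = _
      rw [show m.symm ![x, 0] = ![x, 0] by rw [LinearEquiv.symm_apply_eq, hW], lin_apply]
      congr 1
      ext i; fin_cases i <;> simp [w, Matrix.mulVec, dotProduct, Fin.sum_univ_two]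
    rw [← key x, ← key 1, ← Matrix.mulVec_smul]
    congr 1
    ext i; fin_cases i <;> simp
  refine mem_T.2 ⟨m ![0, 1] 0, LinearEquiv.ext fun v => ?_⟩
  have e : v = ![v 0, 0] + ![0, v 1] := by ext i; fin_cases i <;> simp
  rw [t_apply]
  conv_rhs => rw [e, map_add, hW, hlin]
  have f3 : m ![0, 1] 1 = 1 := f2
  ext i
  fin_cases i
  · simp [mul_comm]
  · simp [f3]

end Cfsg.Agent.NatSL2Sylow
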