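import Cfsg.Agent.Lib.NatSL2Sylow.Unique
import Cfsg.Agent.Lib.SmallSimple.AltEightSubgroups

/-!
# The natural `SL₂(4)` inside `GL₄(2)`

A subgroup `G ≥ SL₂(4)` of `GL₄(2)` with a Sylow 2-subgroup of order 8 normalizing `SL₂(4)` normalizes it
or is isomorphic to `A₇`.
-/

set_option autoImplicit false
set_option linter.unusedSectionVars false
set_option linter.style.haveILetI false

namespace Cfsg.Agent.NatSL2Sylow

open Matrix
open Cfsg.Agent.Components.NaturalSL2

/-- A simple group of order 20160 contains only copies of `A₇` as subgroups of index 8. -/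
theorem index_eight_simple {S : Type*} [Group S] [Finite S] [IsSimpleGroup S]
    (hS : Nat.card S = 20160) {H : Subgroup S} (hH : H.index = 8) :
    Nonempty (H ≃* alternatingGroup (Fin 7)) := by
  have hne : H ≠ ⊤ := fun e => by rw [e, Subgroup.index_top] at hH; norm_num at hH
  haveI := Fintype.ofFinite (S ⧸ H)
  classical
  have hinj := SmallSimple.Basic.toPermHom_injective H hne
  let c : Equiv.Perm (S ⧸ H) ≃* Equiv.Perm (Fin 8) :=
    (Fintype.equivFinOfCardEq (by rw [← Nat.card_eq_fintype_card]; exact hH)).permCongrHom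
  set f := c.toMonoidHom.comp (MulAction.toPermHom S (S ⧸ H)) with hf
  have hfinj : Function.Injective f := c.injective.comp hinj
  have hidx : f.range.index = 2 := by
    have h := f.range.card_mul_index
    rw [← Nat.card_congr (MonoidHom.ofInjective hfinj).toEquiv, hS, Nat.card_perm, Nat.card_fin] at h
    norm_num [Nat.factorial] at h
    omega
  let e : S ≃* alternatingGroup (Fin 8) :=
    (MonoidHom.ofInjective hfinj).trans (MulEquiv.subgroupCongr (Equiv.Perm.eq_alternatingGroup_of_index_eq_two hidx))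
  obtain ⟨a⟩ := SmallSimple.AltEightSubgroups.index_eight (K := H.map e.toMonoidHom)
    ((Subgroup.index_map_of_bijective (f := e.toMonoidHom) e.bijective H).trans hH)
  exact ⟨(H.equivMapOfInjective e.toMonoidHom e.injective).trans a⟩

variable {F : Type} [Field F] [Fintype F] [Algebra (ZMod 2) F]

theorem finrank_eq_two (h4 : Nat.card F = 4) : Module.finrank (ZMod 2) F = 2 := by
  rw [card_F (p := 2)] at h4
  exact Nat.pow_right_injective le_rfl (h4.trans (by norm_num : (4 : ℕ) = 2 ^ 2))

theorem toGL_bijective :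
    Function.Bijective (Matrix.SpecialLinearGroup.toGL (n := Fin 4) (R := ZMod 2)) := by
  refine ⟨Matrix.SpecialLinearGroup.toGL_injective, fun g => ?_⟩
  have hu : IsUnit (g : Matrix (Fin 4) (Fin 4) (ZMod 2)).det :=
    (Matrix.isUnit_iff_isUnit_det _).1 g.isUnit
  have : ∀ z : ZMod 2, z ≠ 0 → z = 1 := by decide
  exact ⟨⟨(g : Matrix (Fin 4) (Fin 4) (ZMod 2)), this _ hu.ne_zero⟩,
    by apply Units.ext; simp [Matrix.SpecialLinearGroup.toGL]⟩

/-- `Aut(F²)` is the group `SL₄(2)`. -/
theorem aut2_equiv (h4 : Nat.card F = 4) :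
    Nonempty (Matrix.SpecialLinearGroup (Fin 4) (ZMod 2) ≃* Aut2 2 F) := by
  have hfr : Module.finrank (ZMod 2) (Fin 2 → F) = 4 := by
    rw [Module.finrank_pi_fintype, Finset.sum_const, Finset.card_univ, Fintype.card_fin, finrank_eq_two h4]
    rfl
  let b := Module.finBasisOfFinrankEq (ZMod 2) (Fin 2 → F) hfr
  let e₁ : GL (Fin 4) (ZMod 2) ≃* ((Fin 2 → F) →ₗ[ZMod 2] (Fin 2 → F))ˣ :=
    Units.mapEquiv (LinearMap.toMatrixAlgEquiv b).symm.toMulEquiv
  exact ⟨((MulEquiv.ofBijective _ toGL_bijective).trans e₁).trans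
    (LinearMap.GeneralLinearGroup.generalLinearEquiv (ZMod 2) (Fin 2 → F))⟩

theorem card_aut2 (h4 : Nat.card F = 4) : Nat.card (Aut2 2 F) = 20160 := by
  obtain ⟨e⟩ := aut2_equiv h4
  rw [← Nat.card_congr e.toEquiv, Nat.card_congr (Equiv.ofBijective _ toGL_bijective),
    Matrix.card_GL_field, Fin.prod_univ_four]
  norm_num [ZMod.card]

theorem center_eq_bot_of_two {n : Type*} [Fintype n] [DecidableEq n] {R : Type*} [CommRing R]
    [IsReduced R] [CharP R 2] {k : ℕ} (hn : Fintype.card n = 2 ^ k) :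
    Subgroup.center (Matrix.SpecialLinearGroup n R) = ⊥ := by
  rw [eq_bot_iff]
  intro A hA
  obtain ⟨r, hr, hr'⟩ := Matrix.SpecialLinearGroup.mem_center_iff.1 hA
  rw [Subgroup.mem_bot]
  haveI : ExpChar R 2 := ExpChar.prime Nat.prime_two
  have hr1 : r = 1 := iterateFrobenius_inj R 2 k (by
    rw [map_one, iterateFrobenius_def, ← hn, hr])
  refine Subtype.ext ?_
  rw [← hr', hr1, map_one]
  rfl

theorem isSimpleGroup_aut2 (h4 : Nat.card F = 4) : IsSimpleGroup (Aut2 2 F) := by
  obtain ⟨e⟩ := aut2_equiv h4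
  haveI := Classical.Linear.isSimpleGroup_PSL (n := Fin 4) (F := ZMod 2) (by simp)
  have hc : Subgroup.center (SpecialLinearGroup (Fin 4) (ZMod 2)) = ⊥ :=
    center_eq_bot_of_two (k := 2) (by simp)
  let e' : ProjectiveSpecialLinearGroup (Fin 4) (ZMod 2) ≃* SpecialLinearGroup (Fin 4) (ZMod 2) :=
    (QuotientGroup.quotientMulEquivOfEq hc).trans QuotientGroup.quotientBot
  exact (e'.trans e).symm.isSimpleGroup

theorem isSimpleGroup_lin (h4 : Nat.card F = 4) : IsSimpleGroup (lin (p := 2) (F := F)).range := by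
  haveI := charP 2 F
  haveI := Matrix.ProjectiveSpecialLinearGroup.rank_two_simple (F := F) (by omega)
  have hc : Subgroup.center (SL F) = ⊥ := center_eq_bot_of_two (k := 1) (by simp)
  let e' : ProjectiveSpecialLinearGroup (Fin 2) F ≃* SL F :=
    (QuotientGroup.quotientMulEquivOfEq hc).trans QuotientGroup.quotientBot
  exact (e'.trans (MonoidHom.ofInjective lin_injective)).symm.isSimpleGroup

theorem four (h4 : Nat.card F = 4) {G P : Subgroup (Aut2 2 F)}
    (hLG : (lin (p := 2) (F := F)).range ≤ G) (hPG : P ≤ G)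
    (hPN : P ≤ Subgroup.normalizer ((lin (p := 2) (F := F)).range : Set (Aut2 2 F)))
    (hT : T 2 F ≤ P) (hP : IsPGroup 2 P) (hne : P ≠ T 2 F)
    (hmax : ∀ k, 2 ^ k ∣ Nat.card G → 2 ^ k ∣ Nat.card P) :
    G ≤ Subgroup.normalizer ((lin (p := 2) (F := F)).range : Set (Aut2 2 F)) ∨
      Nonempty (G ≃* alternatingGroup (Fin 7)) := by
  classical
  set L := (lin (p := 2) (F := F)).range with hL
  haveI := charP 2 F
  haveI := isSimpleGroup_lin h4
  have hcardL : Nat.card L = 60 := by
    rw [← Nat.card_congr (MonoidHom.ofInjective lin_injective).toEquiv, Classical.GL2.natCard_SL_two,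
      ← Nat.card_eq_fintype_card, h4]
  have hPNT := le_NT hP hT hPN
  -- the order of `P`
  have hP8 : Nat.card P = 8 := by
    set f : P →* (F ≃ₐ[ZMod 2] F) := galHom.comp (Subgroup.inclusion hPNT) with hf
    have hker : Nat.card f.ker ≤ 4 := by
      rw [← h4, ← card_T (p := 2) (F := F)]
      refine Nat.card_le_card_of_injective (fun x : f.ker => (⟨(x : P), ?_⟩ : T 2 F)) fun x y h =>
        Subtype.ext (Subtype.ext (congrArg (fun z : T 2 F => (z : Aut2 2 F)) h))
      obtain ⟨k, hk⟩ := hP (x : P)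
      exact mem_T_of_galHom _ ⟨k, congrArg Subtype.val hk⟩ x.2
    have hrange : Nat.card f.range ≤ 2 := by
      exact (Subgroup.card_le_card_group _).trans (by rw [card_gal, finrank_eq_two h4])
    have hmul := f.ker.card_mul_index
    rw [Subgroup.index_ker] at hmul
    have hle : Nat.card P ≤ 8 := by
      rw [← hmul]; exact (Nat.mul_le_mul hker hrange).trans (by norm_num)
    have hlt : 4 < Nat.card P := by
      by_contra h
      push Not at h
      exact hne (Subgroup.eq_of_le_of_card_ge hT (by rw [card_T, h4]; exact h)).symm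
    obtain ⟨k, hk⟩ := IsPGroup.iff_card.1 hP
    rw [hk] at hle hlt ⊢
    have h1 : 2 < k := (Nat.pow_lt_pow_iff_right (a := 2) (by norm_num)).1 (by omega)
    have h2 : k ≤ 3 := (Nat.pow_le_pow_iff_right (a := 2) (by norm_num)).1 (by omega)
    rw [show k = 3 by omega]
    norm_num
  -- the order of `G`
  set N : Subgroup G := (Subgroup.normalizer (L : Set (Aut2 2 F))).subgroupOf G with hN
  set L' : Subgroup G := L.subgroupOf G with hL'
  haveI hL'simple : IsSimpleGroup L' := (Subgroup.subgroupOfEquivOfLe hLG).isSimpleGroup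
  have hcardL' : Nat.card L' = 60 := by rw [← hcardL, Nat.card_congr (Subgroup.subgroupOfEquivOfLe hLG).toEquiv]
  have hL'N : L' ≤ N := fun x hx => Subgroup.le_normalizer hx
  have hnorm : ∀ n ∈ N, ∀ x ∈ L', n * x * n⁻¹ ∈ L' := fun n hn x hx =>
    (Subgroup.mem_normalizer_iff.1 (show (n : Aut2 2 F) ∈ _ from hn) _).1 hx
  have h120 : 120 ∣ Nat.card N := by
    have h1 := Subgroup.card_dvd_of_le hL'N
    have h2 := Subgroup.card_dvd_of_le (show P.subgroupOf G ≤ N from fun x hx => hPN hx)
    rw [hcardL'] at h1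
    rw [Nat.card_congr (Subgroup.subgroupOfEquivOfLe hPG).toEquiv, hP8] at h2
    exact Nat.lcm_dvd (m := 60) (n := 8) h1 h2
  have hG : Nat.card G ∣ 20160 := card_aut2 h4 ▸ Subgroup.card_subgroup_dvd_card G
  have h16 : ¬ 16 ∣ Nat.card G := fun h => by
    have := hmax 4 (by norm_num; exact h)
    rw [hP8] at this
    norm_num at this
  have hGN : Nat.card N * N.index = Nat.card G := N.card_mul_index
  by_cases htop : N = ⊤
  · exact Or.inl fun g hg => (htop ▸ Subgroup.mem_top (⟨g, hg⟩ : G) : (⟨g, hg⟩ : G) ∈ N)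
  by_cases hbig : Nat.card G = 2520
  · refine Or.inr ?_
    haveI := isSimpleGroup_aut2 h4
    refine index_eight_simple (card_aut2 h4) ?_
    have := G.card_mul_index
    rw [hbig, card_aut2 h4] at this
    omega
  -- the remaining orders
  obtain ⟨hsmall, hN120, hidx⟩ : (Nat.card G = 360 ∨ Nat.card G = 840) ∧ Nat.card N = 120 ∧
      (N.index = 3 ∨ N.index = 7) := by
    have hi1 : N.index ≠ 1 := fun e => htop (Subgroup.index_eq_one.1 e)
    obtain ⟨m, hm⟩ := h120
    have hk : m * N.index ∣ 168 := by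
      have : 120 * (m * N.index) ∣ 120 * 168 := by rw [← mul_assoc, ← hm, hGN]; exact hG
      exact (Nat.mul_dvd_mul_iff_left (by norm_num)).1 this
    have hodd : ¬ 2 ∣ m * N.index := fun h => h16 (by
      rw [← hGN, hm, mul_assoc]
      exact dvd_trans (by norm_num : 16 ∣ 120 * 2) (Nat.mul_dvd_mul_left 120 h))
    have hco : Nat.Coprime (m * N.index) 8 := ((Nat.prime_two.coprime_iff_not_dvd.2 hodd).pow_left 3).symm
    have hfin : m * N.index ∣ 21 := hco.dvd_of_dvd_mul_left (show m * N.index ∣ 8 * 21 from hk)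
    have hi : N.index ∣ 21 := dvd_trans (dvd_mul_left _ _) hfin
    have hm' : m ∣ 21 := dvd_trans (dvd_mul_right _ _) hfin
    have h21 : Nat.divisors 21 = {1, 3, 7, 21} := by decide +kernel
    have hi' : N.index ∈ Nat.divisors 21 := Nat.mem_divisors.2 ⟨hi, by norm_num⟩
    have hm'' : m ∈ Nat.divisors 21 := Nat.mem_divisors.2 ⟨hm', by norm_num⟩
    rw [hm] at hGN
    rw [h21] at hi' hm''
    simp only [Finset.mem_insert, Finset.mem_singleton] at hi' hm''
    rcases hi' with e | e | e | e <;> rcases hm'' with e' | e' | e' | e'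
    all_goals rw [e, e'] at hfin hGN
    all_goals norm_num at hfin
    all_goals norm_num at hGN
    all_goals omega
  -- the action on the cosets of `N`
  have hnormal : ∀ g : G, (∀ x ∈ L', g * x * g⁻¹ ∈ N) → ∀ x ∈ L', g * x * g⁻¹ ∈ L' := by
    intro g hg
    let D : Subgroup L' := (L'.comap (MulAut.conj g).toMonoidHom).subgroupOf L'
    haveI : D.Normal := ⟨fun x hx y => by
      have h := hnorm _ (hg y y.2) _ hx
      show g * ((y : G) * x * (y : G)⁻¹) * g⁻¹ ∈ L'
      simpa [mul_assoc] using h⟩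
    rcases Subgroup.Normal.eq_bot_or_eq_top (inferInstance : D.Normal) with hb | ht
    · exfalso
      -- otherwise `L'` and its conjugate meet trivially inside `N`
      have hle : Nat.card (L' × L') ≤ Nat.card N := by
        refine Nat.card_le_card_of_injective
          (fun z => (⟨g * (z.1 : G) * g⁻¹ * z.2, mul_mem (hg _ z.1.2) (hL'N z.2.2)⟩ : N)) fun a b h => ?_
        have h' : g * (a.1 : G) * g⁻¹ * a.2 = g * (b.1 : G) * g⁻¹ * b.2 := congrArg Subtype.val h
        have hmem : b.1⁻¹ * a.1 ∈ D := by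
          show g * ((b.1 : G)⁻¹ * a.1) * g⁻¹ ∈ L'
          have : g * ((b.1 : G)⁻¹ * a.1) * g⁻¹ = (b.2 : G) * (a.2 : G)⁻¹ := by
            have h2 := congrArg (fun z => (g * (b.1 : G) * g⁻¹)⁻¹ * z * (a.2 : G)⁻¹) h'
            simpa [mul_assoc] using h2
          rw [this]
          exact mul_mem b.2.2 (inv_mem a.2.2)
        rw [hb, Subgroup.mem_bot, inv_mul_eq_one] at hmem
        rw [hmem] at h'
        exact Prod.ext hmem.symm (Subtype.ext (mul_left_cancel h'))
      rw [Nat.card_prod, hcardL', hN120] at hle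
      norm_num at hle
    · intro x hx
      exact (ht ▸ Subgroup.mem_top (⟨x, hx⟩ : L') : (⟨x, hx⟩ : L') ∈ D)
  set K := N.normalCore with hK
  by_cases hLK : L' ≤ K
  · refine Or.inl fun g hg => ?_
    have key : ∀ g : G, ∀ x ∈ L', g * x * g⁻¹ ∈ L' := fun g =>
      hnormal g fun x hx => Subgroup.normalCore_le N ((Subgroup.normalCore_normal N).conj_mem x (hLK hx) g)
    refine Subgroup.mem_normalizer_iff.2 fun y => ⟨fun hy => ?_, fun hy => ?_⟩
    · exact key ⟨g, hg⟩ ⟨y, hLG hy⟩ hy
    · have hyG : y ∈ G := by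
        have := mul_mem (mul_mem (inv_mem hg) (hLG hy)) hg
        simpa [mul_assoc] using this
      have := key ⟨g, hg⟩⁻¹ ⟨g * y * g⁻¹, hLG hy⟩ hy
      simpa [hL', Subgroup.mem_subgroupOf, mul_assoc] using this
  exfalso
  -- the core meets `L'` trivially, so is trivial
  have hKL : K ⊓ L' = ⊥ := by
    haveI : (K.subgroupOf L').Normal := inferInstance
    rcases Subgroup.Normal.eq_bot_or_eq_top (inferInstance : (K.subgroupOf L').Normal) with h | h
    · rw [Subgroup.subgroupOf_eq_bot] at h
      exact disjoint_iff.1 h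
    · exact absurd (Subgroup.subgroupOf_eq_top.1 h) hLK
  have hKbot : K = ⊥ := by
    rw [eq_bot_iff]
    intro k hk
    have hcomm : ∀ x ∈ L', k * x * k⁻¹ = x := fun x hx => by
      have h1 : k * x * k⁻¹ * x⁻¹ ∈ K ⊓ L' := by
        refine ⟨?_, L'.mul_mem (hnorm k (Subgroup.normalCore_le N hk) x hx) (L'.inv_mem hx)⟩
        rw [show k * x * k⁻¹ * x⁻¹ = k * (x * k⁻¹ * x⁻¹) by simp [mul_assoc]]
        exact K.mul_mem hk ((Subgroup.normalCore_normal N).conj_mem _ (K.inv_mem hk) x)
      rw [hKL, Subgroup.mem_bot, mul_inv_eq_one] at h1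
      exact h1
    -- `K` has order at most 2
    have hle : Nat.card K * 60 ≤ 120 := by
      rw [← hN120, ← hcardL', ← Nat.card_prod]
      refine Nat.card_le_card_of_injective
        (fun z => (⟨(z.1 : G) * z.2, mul_mem (Subgroup.normalCore_le N z.1.2) (hL'N z.2.2)⟩ : N)) fun a b h => ?_
      exact Subgroup.mul_injective_of_disjoint (disjoint_iff.2 hKL) (congrArg Subtype.val h)
    have hk2 : k ^ 2 = 1 := by
      have hord : orderOf k ≤ 2 := le_trans
        (Nat.le_of_dvd Nat.card_pos ((Subgroup.orderOf_mk k hk) ▸ orderOf_dvd_natCard (⟨k, hk⟩ : K)))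
        (by omega)
      have hpos := orderOf_pos k
      exact orderOf_dvd_iff_pow_eq_one.1 (by rcases (show orderOf k = 1 ∨ orderOf k = 2 by omega) with e | e <;> simp [e])
    set m := (k : Aut2 2 F) with hm
    have hmc : ∀ y ∈ L, m * y * m⁻¹ = y := fun y hy =>
      congrArg Subtype.val (hcomm ⟨y, hLG hy⟩ hy)
    have hmNT : m ∈ NT 2 F := by
      refine ⟨(Subgroup.normalCore_le N hk : k ∈ N), Subgroup.mem_normalizer_iff.2 fun y => ?_⟩
      refine ⟨fun hy => (hmc y (T_le hy)).symm ▸ hy, fun hy => ?_⟩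
      have h1 := hmc _ (T_le hy)
      have h2 : m * y * m⁻¹ = y := mul_left_cancel (mul_right_cancel h1)
      rwa [h2] at hy
    have hgal : galHom ⟨m, hmNT⟩ = 1 := by
      apply AlgEquiv.ext
      intro a
      rw [galHom_apply, AlgEquiv.one_apply]
      have h1 := omega_theta hmNT (a := a) (a' := a) (hmc _ (T_le (t_mem a))) 1
      have h2 := omega_theta hmNT (a := 1) (a' := 1) (hmc _ (T_le (t_mem 1))) 1
      rw [mul_one] at h1 h2
      rw [one_mul] at h2
      show omega m a / omega m 1 = a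
      rw [h1, h2, mul_div_assoc, div_self (by rw [← h2]; exact omega_one_ne hmNT), mul_one]
    have hmT : m ∈ L := T_le (mem_T_of_galHom ⟨m, hmNT⟩ ⟨1, by
      rw [pow_one]; exact congrArg Subtype.val hk2⟩ hgal)
    have : k ∈ K ⊓ L' := ⟨hk, hmT⟩
    rwa [hKL] at this
  set π := MulAction.toPermHom G (G ⧸ N) with hπ
  have hπinj : Function.Injective π := by
    rw [← MonoidHom.ker_eq_bot_iff, hπ, ← Subgroup.normalCore_eq_ker]
    exact hKbot
  haveI := Fintype.ofFinite (G ⧸ N)
  have hle := Subgroup.card_dvd_of_le (le_top : π.range ≤ ⊤)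
  rw [Subgroup.card_top, ← Nat.card_congr (MonoidHom.ofInjective hπinj).toEquiv, Nat.card_perm] at hle
  change Nat.card G ∣ N.index.factorial at hle
  rcases hidx with hi | hi <;> rw [hi] at hle hGN <;> rw [hN120] at hGN <;>
    norm_num [Nat.factorial] at hGN
  · rw [← hGN] at hle
    norm_num [Nat.factorial] at hle
  -- index 7: a subgroup of order 840 of `S₇`
  let c : Equiv.Perm (G ⧸ N) ≃* Equiv.Perm (Fin 7) :=
    (Fintype.equivFinOfCardEq (by rw [← Nat.card_eq_fintype_card]; exact hi)).permCongrHom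
  set f := c.toMonoidHom.comp π with hf
  have hfinj : Function.Injective f := c.injective.comp hπinj
  set R := f.range with hR
  have hRcard : Nat.card R = 840 := by
    rw [hR, ← Nat.card_congr (MonoidHom.ofInjective hfinj).toEquiv, ← hGN]
  set A := R.subgroupOf (alternatingGroup (Fin 7)) with hA
  have hc7 : Nat.card (alternatingGroup (Fin 7)) = 2520 := by
    rw [nat_card_alternatingGroup, Nat.card_fin]; norm_num [Nat.factorial]
  have hAidx : A.index ≤ 6 := by
    have h1 : A.index ≤ R.index := by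
      rw [hA, ← Subgroup.relIndex, ← R.relIndex_top_right]
      exact Subgroup.relIndex_le_of_le_right le_top (by rw [R.relIndex_top_right]; exact Subgroup.index_ne_zero_of_finite)
    have h2 := R.card_mul_index
    rw [hRcard, Nat.card_perm, Nat.card_fin] at h2
    norm_num [Nat.factorial] at h2
    omega
  have hAne : A ≠ ⊤ := fun e => by
    have := Subgroup.card_le_of_le (Subgroup.subgroupOf_eq_top.1 e : alternatingGroup (Fin 7) ≤ R)
    omega
  haveI : IsSimpleGroup (alternatingGroup (Fin 7)) := alternatingGroup.isSimpleGroup (by simp)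
  have h3 := Nat.card_le_card_of_injective _ (SmallSimple.Basic.toPermHom_injective A hAne)
  rw [hc7, Nat.card_perm] at h3
  have h4' : A.index.factorial ≤ Nat.factorial 6 := Nat.factorial_le hAidx
  change 2520 ≤ A.index.factorial at h3
  norm_num [Nat.factorial] at h4'
  omega

end Cfsg.Agent.NatSL2Sylow
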