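import Cfsg.Agent.Lib.NatSL2Sylow.Unique

/-!
# A group with a Sylow subgroup normalizing a natural `SL₂` normalizes it

If a Sylow subgroup `P` of `G ≥ SL₂(q)` normalizes `SL₂(q)` and has only one elementary abelian subgroup of
order `q`, then the fixed lines of the conjugates of this subgroup pairwise meet trivially, so they are the
lines of `F²` and `G` normalizes `SL₂(q)`.
-/

set_option autoImplicit false
set_option linter.unusedSectionVars false
set_option linter.style.haveILetI false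

namespace Cfsg.Agent.NatSL2Sylow

open Matrix
open Cfsg.Agent.Components.NaturalSL2

variable {p : ℕ} [hp : Fact p.Prime] {F : Type} [Field F] [Fintype F] [Algebra (ZMod p) F]

/-- The stabilizer of the fixed line of `T`. -/
def S0 (p : ℕ) (F : Type) [Field F] [Algebra (ZMod p) F] : Subgroup (Aut2 p F) where
  carrier := {x | ∀ v, x v ∈ W0 ↔ v ∈ W0}
  one_mem' _ := Iff.rfl
  mul_mem' {x y} hx hy v := (hx (y v)).trans (hy v)
  inv_mem' {x} hx v := by
    have h := hx (x.symm v)
    rw [LinearEquiv.apply_symm_apply] at h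
    exact h.symm

/-- The elements stabilizing the chain `0 < W0 < F²`. -/
def IsStab (y : Aut2 p F) : Prop := (∀ v ∈ W0, y v = v) ∧ ∀ v, y v - v ∈ W0

theorem W0_add {u v : Fin 2 → F} (hu : u ∈ W0) (hv : v ∈ W0) : u + v ∈ W0 := by
  rw [mem_W0] at *; simp [hu, hv]

theorem W0_sub {u v : Fin 2 → F} (hu : u ∈ W0) (hv : v ∈ W0) : u - v ∈ W0 := by
  rw [mem_W0] at *; simp [hu, hv]

theorem W0_zero : (0 : Fin 2 → F) ∈ W0 := rfl

theorem isStab_T {y : Aut2 p F} (hy : y ∈ T p F) : IsStab y := by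
  obtain ⟨a, rfl⟩ := mem_T.1 hy
  exact ⟨fun v hv => by ext i; fin_cases i <;> simp [t_apply, mem_W0.1 hv],
    fun v => by simp [t_apply, mem_W0, Matrix.vecHead, Matrix.vecTail]⟩

/-- The stability group of the chain. -/
def C0 (p : ℕ) [Fact p.Prime] (F : Type) [Field F] [Fintype F] [Algebra (ZMod p) F] : Subgroup (Aut2 p F) where
  carrier := {y | IsStab y}
  one_mem' := ⟨fun _ _ => rfl, fun v => by rw [LinearEquiv.coe_one, id_eq, sub_self]; exact W0_zero⟩
  mul_mem' {x y} hx hy := ⟨fun v hv => by show x (y v) = v; rw [hy.1 v hv, hx.1 v hv], fun v => by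
    show x (y v) - v ∈ W0
    rw [show x (y v) - v = (x (y v) - y v) + (y v - v) by abel]
    exact W0_add (hx.2 _) (hy.2 v)⟩
  inv_mem' {x} hx := by
    refine ⟨fun v hv => ?_, fun v => ?_⟩
    · show x.symm v = v
      rw [LinearEquiv.symm_apply_eq, hx.1 v hv]
    · show x.symm v - v ∈ W0
      have h := hx.2 (x.symm v)
      rw [LinearEquiv.apply_symm_apply] at h
      rw [← neg_sub]
      rw [mem_W0] at h ⊢
      rw [Pi.neg_apply, h, neg_zero]

theorem C0_comm {x y : Aut2 p F} (hx : x ∈ C0 p F) (hy : y ∈ C0 p F) : x * y = y * x := by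
  apply LinearEquiv.ext
  intro v
  show x (y v) = y (x v)
  have h1 : x (y v) = x v + (y v - v) := by
    rw [show y v = v + (y v - v) by abel, map_add, hx.1 _ (hy.2 v)]
    abel
  have h2 : y (x v) = y v + (x v - v) := by
    rw [show x v = v + (x v - v) by abel, map_add, hy.1 _ (hx.2 v)]
    abel
  rw [h1, h2]; abel

theorem C0_pow {x : Aut2 p F} (hx : x ∈ C0 p F) : x ^ p = 1 := by
  haveI := charP p F
  have key : ∀ k : ℕ, ∀ v, (x ^ k) v = v + k • (x v - v) := by
    intro k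
    induction k with
    | zero => intro v; simp
    | succ k ih =>
      intro v
      rw [pow_succ']
      show x ((x ^ k) v) = _
      rw [ih, map_add, map_nsmul, hx.1 _ (hx.2 v), succ_nsmul]
      abel
  apply LinearEquiv.ext
  intro v
  rw [key]
  show v + p • (x v - v) = v
  ext i
  simp

variable {G P : Subgroup (Aut2 p F)}
  (hLG : (lin (p := p) (F := F)).range ≤ G) (hPG : P ≤ G)
  (hPN : P ≤ Subgroup.normalizer ((lin (p := p) (F := F)).range : Set (Aut2 p F)))
  (hT : T p F ≤ P) (hP : IsPGroup p P)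
  (hconj : ∀ Q : Subgroup (Aut2 p F), Q ≤ G → IsPGroup p Q → ∃ g ∈ G, ∀ x ∈ Q, g * x * g⁻¹ ∈ P)
  (hq : Nat.card F ≠ 4 ∨ P = T p F)
include hLG hPG hPN hT hP hconj hq

theorem T_le_G : T p F ≤ G := T_le.trans hLG

theorem conj_T {g : Aut2 p F} (hg : ∀ x ∈ T p F, g * x * g⁻¹ ∈ P) :
    (T p F).map (MulAut.conj g).toMonoidHom = T p F := by
  refine unique hP hT hPN hq ?_ ?_ ?_ ?_
  · rintro _ ⟨x, hx, rfl⟩
    simpa using hg x hx
  · rintro _ ⟨x, hx, rfl⟩ _ ⟨y, hy, rfl⟩
    rw [← map_mul, ← map_mul, T_comm hx hy]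
  · rintro _ ⟨x, hx, rfl⟩
    haveI := charP p F
    rw [← map_pow, T_pow hx, map_one]
  · rw [Subgroup.card_map_of_injective (MulAut.conj g).injective, card_T]

theorem stab_inf : C0 p F ⊓ G = T p F := by
  refine le_antisymm ?_ (le_inf (fun x hx => isStab_T hx) (T_le_G hLG hPG hPN hT hP hconj hq))
  intro y hy
  by_contra hyT
  have hC : IsPGroup p ↥(C0 p F ⊓ G) := by
    rintro ⟨x, hx⟩
    exact ⟨1, Subtype.ext (by rw [pow_one]; exact C0_pow hx.1)⟩
  obtain ⟨g, -, hg⟩ := hconj _ inf_le_right hC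
  -- all of the stability group in `G` is conjugate into `P`
  have hTC : T p F ≤ C0 p F ⊓ G :=
    le_inf (fun x hx => isStab_T hx) (T_le_G hLG hPG hPN hT hP hconj hq)
  have heT := conj_T hLG hPG hPN hT hP hconj hq (fun x hx => hg x (hTC hx))
  obtain ⟨k, hk⟩ := IsPGroup.iff_card.1 hC
  set e := Module.finrank (ZMod p) F
  have hcyc : Nat.card (Subgroup.zpowers (⟨y, hy⟩ : ↥(C0 p F ⊓ G))) = p ^ 1 := by
    rw [Nat.card_zpowers, pow_one]
    refine orderOf_eq_prime (Subtype.ext (C0_pow hy.1)) fun h => hyT ?_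
    rw [show y = 1 from congrArg Subtype.val h]
    exact one_mem _
  have hek : e ≤ k := by
    refine (Nat.pow_le_pow_iff_right hp.out.one_lt).1 ?_
    rw [← card_F, ← hk, ← card_T (p := p)]
    exact Nat.card_le_card_of_injective _ (Subgroup.inclusion_injective hTC)
  have he1 : 1 ≤ e := Module.finrank_pos
  obtain ⟨K, hK, hyK⟩ := Sylow.exists_subgroup_card_pow_prime_le p
    (by rw [hk]; exact pow_dvd_pow p hek) _ hcyc he1
  set R := (K.map (C0 p F ⊓ G).subtype).map (MulAut.conj g).toMonoidHom with hR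
  have hRT : R = T p F := by
    refine unique hP hT hPN hq ?_ ?_ ?_ ?_
    · rintro _ ⟨_, ⟨x, -, rfl⟩, rfl⟩
      simpa using hg x x.2
    · rintro _ ⟨_, ⟨x, -, rfl⟩, rfl⟩ _ ⟨_, ⟨z, -, rfl⟩, rfl⟩
      show (MulAut.conj g) (x : Aut2 p F) * (MulAut.conj g) (z : Aut2 p F) =
        (MulAut.conj g) (z : Aut2 p F) * (MulAut.conj g) (x : Aut2 p F)
      rw [← map_mul, ← map_mul, C0_comm x.2.1 z.2.1]
    · rintro _ ⟨_, ⟨x, -, rfl⟩, rfl⟩
      rw [← map_pow, show ((C0 p F ⊓ G).subtype x) ^ p = 1 from C0_pow x.2.1, map_one]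
    · rw [hR, Subgroup.card_map_of_injective (MulAut.conj g).injective,
        Subgroup.card_map_of_injective Subtype.val_injective, hK, card_F (p := p)]
  refine hyT ?_
  have h1 : MulAut.conj g y ∈ R :=
    ⟨y, ⟨⟨y, hy⟩, hyK (Subgroup.mem_zpowers _), rfl⟩, rfl⟩
  rw [hRT, ← heT] at h1
  obtain ⟨x, hx, e'⟩ := h1
  rwa [← (MulAut.conj g).injective e']

theorem stab_normalizes {x : Aut2 p F} (hxG : x ∈ G) (hx : x ∈ S0 p F) :
    x ∈ Subgroup.normalizer (T p F : Set (Aut2 p F)) := by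
  have key : ∀ x : Aut2 p F, x ∈ G → x ∈ S0 p F → ∀ y ∈ T p F, x * y * x⁻¹ ∈ T p F := by
    intro x hxG hx y hy
    rw [← stab_inf hLG hPG hPN hT hP hconj hq] at hy ⊢
    refine ⟨⟨fun v hv => ?_, fun v => ?_⟩, G.mul_mem (G.mul_mem hxG hy.2) (G.inv_mem hxG)⟩
    · show x (y (x.symm v)) = v
      have : x.symm v ∈ W0 := by rw [← hx, LinearEquiv.apply_symm_apply]; exact hv
      rw [hy.1.1 _ this, LinearEquiv.apply_symm_apply]
    · show x (y (x.symm v)) - v ∈ W0
      rw [show x (y (x.symm v)) - v = x (y (x.symm v) - x.symm v) by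
        rw [map_sub, LinearEquiv.apply_symm_apply]]
      exact (hx _).2 (hy.1.2 _)
  refine Subgroup.mem_normalizer_iff.2 fun y => ⟨key x hxG hx y, fun h => ?_⟩
  have := key x⁻¹ (inv_mem hxG) ((S0 p F).inv_mem hx) _ h
  simpa [mul_assoc] using this

/-- Two fixed lines meeting non-trivially coincide. -/
theorem meet {g : Aut2 p F} (hg : g ∈ G) (hne : ∃ v, v ≠ 0 ∧ v ∈ W0 ∧ g.symm v ∈ W0) :
    g ∈ S0 p F := by
  classical
  by_contra hgS
  let I : Aut2 p F → Set (Fin 2 → F) := fun g => {v | v ∈ W0 ∧ g.symm v ∈ W0}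
  obtain ⟨v0, hv0, hv0I⟩ := hne
  let bad : Set (Aut2 p F) := {x | x ∈ G ∧ x ∉ S0 p F}
  obtain ⟨g, hgb, hmax⟩ := Set.exists_max_image bad (fun x => Nat.card (I x)) (Set.toFinite _) ⟨g, hg, hgS⟩
  have hX1 : 1 < Nat.card (I g) := by
    refine lt_of_lt_of_le ?_ (hmax _ ⟨‹_›, ‹_›⟩)
    rw [Finite.one_lt_card_iff_nontrivial]
    exact ⟨⟨0, W0_zero, by rw [map_zero]; exact W0_zero⟩, ⟨v0, hv0I⟩,
      fun h => hv0 (congrArg Subtype.val h).symm⟩
  obtain ⟨hg, hgS⟩ := hgb
  -- a point of the line of `g` outside `W0`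
  have hW : Nat.card (W0 : Set (Fin 2 → F)) = Nat.card F :=
    Nat.card_congr
      { toFun := fun v => v.1 0
        invFun := fun x => ⟨![x, 0], rfl⟩
        left_inv := fun v => Subtype.ext (by ext i; fin_cases i <;> simp [mem_W0.1 v.2])
        right_inv := fun x => rfl }
  obtain ⟨w1, hw1, hw1'⟩ : ∃ w, w ∈ W0 ∧ g w ∉ W0 := by
    by_contra h
    push Not at h
    refine hgS fun v => ⟨fun hv => ?_, h v⟩
    have himg : g '' W0 = W0 := Set.eq_of_subset_of_ncard_le (by rintro _ ⟨u, hu, rfl⟩; exact h u hu)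
      (by rw [Set.ncard_image_of_injective _ g.injective]) (Set.toFinite _)
    rw [← himg] at hv
    obtain ⟨u, hu, e⟩ := hv
    rwa [← g.injective e]
  set w' := g w1 with hw'
  -- the stabilizer in `T` of the line of `g`
  set U0 : Subgroup (Aut2 p F) := T p F ⊓ (S0 p F).map (MulAut.conj g).toMonoidHom with hU0
  have memU0 : ∀ u, u ∈ T p F → g⁻¹ * u * g ∈ S0 p F → u ∈ U0 := fun u h1 h2 =>
    ⟨h1, g⁻¹ * u * g, h2, by simp [mul_assoc]⟩
  have hTG := T_le_G hLG hPG hPN hT hP hconj hq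
  haveI := charP p F
  have step : ∀ u ∈ T p F, u ∉ U0 → ∀ v, g.symm v ∈ W0 → g.symm (u v) ∈ W0 → v ∈ I g := by
    intro u hu hu' v hv huv
    have hbad : (g⁻¹ * u * g) ∈ bad :=
      ⟨mul_mem (mul_mem (inv_mem hg) (hTG hu)) hg, fun h => hu' (memU0 u hu h)⟩
    have hsub : g.symm '' I g ⊆ I (g⁻¹ * u * g) := by
      rintro _ ⟨x, ⟨hx1, hx2⟩, rfl⟩
      refine ⟨hx2, ?_⟩
      show g.symm (u.symm (g (g.symm x))) ∈ W0
      rw [LinearEquiv.apply_symm_apply,
        show u.symm x = x by rw [LinearEquiv.symm_apply_eq, (isStab_T hu).1 x hx1]]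
      exact hx2
    have heq : g.symm '' I g = I (g⁻¹ * u * g) := by
      refine Set.eq_of_subset_of_ncard_le hsub ?_ (Set.toFinite _)
      rw [Set.ncard_image_of_injective _ g.symm.injective]
      exact (Nat.card_coe_set_eq _).symm.le.trans ((hmax _ hbad).trans (Nat.card_coe_set_eq _).le)
    have hm : g.symm (u v) ∈ I (g⁻¹ * u * g) := by
      refine ⟨huv, ?_⟩
      show g.symm (u.symm (g (g.symm (u v)))) ∈ W0
      rw [LinearEquiv.apply_symm_apply, LinearEquiv.symm_apply_apply]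
      exact hv
    rw [← heq] at hm
    obtain ⟨x, hx, e⟩ := hm
    have hxv : x = u v := g.symm.injective e
    have : v = x := by
      rw [← (isStab_T hu).1 x hx.1] at hxv
      exact (u.injective hxv).symm
    exact this ▸ hx
  have hIsub : ∀ {x y}, x ∈ I g → y ∈ I g → x - y ∈ I g := fun hx hy =>
    ⟨W0_sub hx.1 hy.1, by rw [map_sub]; exact W0_sub hx.2 hy.2⟩
  -- `q |X| ≤ q |U0|`
  have hXU : Nat.card (I g) ≤ Nat.card U0 := by
    let φ : T p F × I g → W0 (F := F) := fun z =>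
      ⟨(z.1 : Aut2 p F) w' - w' + z.2, W0_add ((isStab_T z.1.2).2 w') z.2.2.1⟩
    have hfib : ∀ z z', φ z = φ z' → (z'.1 : Aut2 p F)⁻¹ * (z.1 : Aut2 p F) ∈ U0 := by
      intro z z' h
      set y := (z'.1 : Aut2 p F)⁻¹ * (z.1 : Aut2 p F) with hy
      have hyT : y ∈ T p F := mul_mem (inv_mem z'.1.2) z.1.2
      by_contra hyU
      have hyv : y w' - w' = z'.2 - z.2 := by
        have h' : (z.1 : Aut2 p F) w' - (z'.1 : Aut2 p F) w' = (z'.2 : Fin 2 → F) - z.2 := by
          have := congrArg Subtype.val h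
          linear_combination (norm := module) this
        have := congrArg (z'.1 : Aut2 p F).symm h'
        rw [map_sub, LinearEquiv.symm_apply_apply] at this
        rw [hy]
        refine this.trans ?_
        rw [LinearEquiv.symm_apply_eq, (isStab_T z'.1.2).1 _ (W0_sub z'.2.2.1 z.2.2.1)]
      refine hw1' (step y hyT hyU w' (by rw [hw', LinearEquiv.symm_apply_apply]; exact hw1) ?_).1
      rw [show y w' = w' + ((z'.2 : Fin 2 → F) - z.2) by rw [← hyv]; abel, map_add, hw',
        LinearEquiv.symm_apply_apply]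
      exact W0_add hw1 (hIsub z'.2.2 z.2.2).2
    haveI : Nonempty (T p F × I g) := ⟨(1, ⟨0, W0_zero, by rw [map_zero]; exact W0_zero⟩)⟩
    let ψ : T p F × I g → W0 (F := F) × U0 := fun z =>
      (φ z, ⟨(((Function.invFun φ (φ z)).1 : Aut2 p F))⁻¹ * (z.1 : Aut2 p F),
        hfib _ _ (Function.invFun_eq ⟨z, rfl⟩).symm⟩)
    have hψ : Function.Injective ψ := by
      intro z z' h
      have h1 : φ z = φ z' := congrArg Prod.fst h
      have h2 := congrArg (fun x => (x.2 : Aut2 p F)) h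
      simp only [ψ, h1, mul_right_inj] at h2
      have h3 : z.1 = z'.1 := Subtype.ext h2
      refine Prod.ext h3 (Subtype.ext ?_)
      have := congrArg Subtype.val h1
      simp only [φ, h3] at this
      exact add_left_cancel this
    have := Nat.card_le_card_of_injective ψ hψ
    rw [Nat.card_prod, Nat.card_prod, card_T, hW] at this
    exact Nat.le_of_mul_le_mul_left this Nat.card_pos
  -- the stabilizer acts by field automorphisms on the line of `g`
  set U1 : Subgroup (Aut2 p F) := U0.map (MulAut.conj g⁻¹).toMonoidHom with hU1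
  have hU0exp : ∀ x ∈ U0, x ^ p = 1 := fun x hx => T_pow hx.1
  have hU1G : U1 ≤ G := by
    rintro _ ⟨u, hu, rfl⟩
    simpa using mul_mem (mul_mem (inv_mem hg) (hTG hu.1)) hg
  have hU1N : U1 ≤ Subgroup.normalizer (T p F : Set (Aut2 p F)) := by
    intro x hx
    refine stab_normalizes hLG hPG hPN hT hP hconj hq (hU1G hx) ?_
    obtain ⟨u, ⟨-, s, hs, rfl⟩, rfl⟩ := hx
    simpa [mul_assoc] using hs
  have hU1p : IsPGroup p U1 := by
    rintro ⟨_, u, hu, rfl⟩
    exact ⟨1, Subtype.ext (by rw [pow_one, SubmonoidClass.coe_pow, ← map_pow, hU0exp u hu, map_one]; rfl)⟩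
  obtain ⟨h, hh, hhP⟩ := hconj _ (sup_le hU1G hTG) (hU1p.to_sup_of_normal_right' T_isPGroup hU1N)
  have hhT := conj_T hLG hPG hPN hT hP hconj hq (fun x hx => hhP x (le_sup_right (a := U1) hx))
  have hk : ∀ u ∈ U0, MulAut.conj h (MulAut.conj g⁻¹ u) ∈ P := fun u hu => by
    simpa using hhP _ (le_sup_left (b := T p F) (⟨u, hu, rfl⟩ : MulAut.conj g⁻¹ u ∈ U1))
  have hdisj : ∀ u ∈ U0, MulAut.conj h (MulAut.conj g⁻¹ u) ∈ T p F → u = 1 := by
    intro u hu hmem
    by_contra hu1
    rw [← hhT] at hmem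
    obtain ⟨x, hx, e⟩ := hmem
    have hx' : g⁻¹ * u * g ∈ T p F := by
      rw [show x = MulAut.conj g⁻¹ u from (MulAut.conj h).injective e] at hx
      simpa using hx
    obtain ⟨a, ha⟩ := mem_T.1 hu.1
    obtain ⟨b, hb⟩ := mem_T.1 hx'
    have ha0 : a ≠ 0 := fun e => hu1 (by rw [← ha, e, t_zero])
    refine hgS fun v => ⟨fun hgv => ?_, fun hv => ?_⟩
    · have h1 : g.symm (u (g v)) = v := by
        rw [← ha, (fix_t ha0).2 hgv, LinearEquiv.symm_apply_apply]
      have h2 : t p b v = v := by rw [hb]; exact h1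
      refine (fix_t ?_).1 h2
      intro e
      rw [e, t_zero] at hb
      refine hu1 ?_
      have := congrArg (fun z => g * z * g⁻¹) hb
      simpa [mul_assoc] using this.symm
    · have h1 : g.symm (u (g v)) = v := by
        show (g⁻¹ * u * g) v = v
        exact (isStab_T hx').1 v hv
      rw [LinearEquiv.symm_apply_eq, ← ha] at h1
      exact (fix_t ha0).1 h1
  rcases hq with hq' | rfl
  swap
  · have : Nat.card U0 ≤ 1 := by
      rw [Finite.card_le_one_iff_subsingleton]
      exact ⟨fun u v => Subtype.ext ((hdisj u u.2 (hk u u.2)).trans (hdisj v v.2 (hk v v.2)).symm)⟩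
    omega
  have hNT := le_NT hP hT hPN
  let k : U0 →* NT p F := MonoidHom.mk' (fun u => ⟨_, hNT (hk u u.2)⟩)
    fun u v => Subtype.ext (by
      show MulAut.conj h (MulAut.conj g⁻¹ ((u : Aut2 p F) * v)) = _
      rw [map_mul, map_mul]; rfl)
  have hinj : Function.Injective (galHom.comp k) := by
    rw [injective_iff_map_eq_one]
    intro u hu
    refine Subtype.ext (hdisj u u.2 (mem_T_of_galHom (k u) ⟨1, ?_⟩ hu))
    rw [pow_one]
    show (MulAut.conj h (MulAut.conj g⁻¹ (u : Aut2 p F))) ^ p = 1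
    rw [← map_pow, ← map_pow, hU0exp u u.2, map_one, map_one]
  have hcardr : Nat.card U0 = Nat.card (galHom.comp k).range :=
    Nat.card_congr (MonoidHom.ofInjective hinj).toEquiv
  have hdvd : Nat.card U0 ∣ p := by rw [hcardr]; exact exponent_gal hU0exp _
  have hdvdgal : Nat.card U0 ∣ Module.finrank (ZMod p) F := by
    rw [hcardr, ← card_gal]; exact Subgroup.card_subgroup_dvd_card _
  have hUp : Nat.card U0 = p := by
    rcases (Nat.dvd_prime hp.out).1 hdvd with e | e
    · omega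
    · exact e
  obtain ⟨u, hu, hu1⟩ := (Subgroup.bot_or_exists_ne_one U0).resolve_left fun e => by
    rw [e, Subgroup.card_bot] at hUp
    exact hp.out.one_lt.ne hUp
  obtain ⟨a, ha⟩ := mem_T.1 hu.1
  have ha0 : a ≠ 0 := fun e => hu1 (by rw [← ha, e, t_zero])
  have hmapW : ∀ v, g.symm v ∈ W0 → g.symm (u v) ∈ W0 := by
    obtain ⟨-, s, hs, e⟩ := hu
    intro v hv
    rw [← e]
    show g.symm (g (s (g.symm v))) ∈ W0
    rw [LinearEquiv.symm_apply_apply]
    exact (hs _).2 hv
  -- `q ≤ |X|²`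
  have hqX : Nat.card F ≤ Nat.card (I g) * Nat.card (I g) := by
    let χ : {v : Fin 2 → F // g.symm v ∈ W0} → I g := fun v =>
      ⟨u v - v, (isStab_T hu.1).2 v, by rw [map_sub]; exact W0_sub (hmapW v v.2) v.2⟩
    haveI : Nonempty {v : Fin 2 → F // g.symm v ∈ W0} := ⟨⟨0, by rw [map_zero]; exact W0_zero⟩⟩
    let ψ : {v : Fin 2 → F // g.symm v ∈ W0} → I g × I g := fun v =>
      (χ v, ⟨(v : Fin 2 → F) - (Function.invFun χ (χ v) : _).1, by
        have e := congrArg Subtype.val (Function.invFun_eq (f := χ) (b := χ v) ⟨v, rfl⟩)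
        refine ⟨(fix_t (p := p) ha0).1 ?_, by rw [map_sub]; exact W0_sub v.2 (Function.invFun χ (χ v)).2⟩
        rw [ha, map_sub]
        simp only [χ] at e ⊢
        linear_combination (norm := module) -e⟩)
    have hψ : Function.Injective ψ := by
      intro v v' h
      have h1 : χ v = χ v' := congrArg Prod.fst h
      have h2 := congrArg (fun x => (x.2 : Fin 2 → F)) h
      simp only [ψ, h1, sub_left_inj] at h2
      exact Subtype.ext h2
    have := Nat.card_le_card_of_injective ψ hψ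
    rw [Nat.card_prod] at this
    rw [← hW]
    refine le_trans (le_of_eq ?_) this
    exact Nat.card_congr (g.toEquiv.subtypeEquiv fun v => by simp)
  refine hq' ?_
  have hq2 : Nat.card F ≤ p * p := hqX.trans (by rw [← hUp]; exact Nat.mul_le_mul hXU hXU)
  rw [card_F (p := p), ← pow_two, Nat.pow_le_pow_iff_right hp.out.one_lt] at hq2
  rw [hUp] at hdvdgal
  have hpos : 0 < Module.finrank (ZMod p) F := Module.finrank_pos
  have hple := Nat.le_of_dvd hpos hdvdgal
  have hp2 : p = 2 := le_antisymm (hple.trans hq2) hp.out.two_le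
  rw [card_F (p := p), show Module.finrank (ZMod p) F = 2 by omega, hp2]
  norm_num

theorem conj_T_le {g : Aut2 p F} (hg : g ∈ G) {y : Aut2 p F} (hy : y ∈ T p F) :
    g * y * g⁻¹ ∈ (lin (p := p) (F := F)).range := by
  have hv : g ![1, 0] ≠ 0 := fun h => by
    have := congrFun (g.map_eq_zero_iff.1 h) 0
    simp at this
  obtain ⟨A, hA⟩ := exists_column hv
  set A' := lin (p := p) A with hA'
  have hg' : A'⁻¹ * g ∈ G := mul_mem (inv_mem (hLG ⟨A, rfl⟩)) hg
  have hS := meet hLG hPG hPN hT hP hconj hq hg' ⟨![1, 0], fun h => by simpa using congrFun h 0, rfl, by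
    show g.symm (A' ![1, 0]) ∈ W0
    rw [hA', lin_apply, hA, LinearEquiv.symm_apply_apply]
    rfl⟩
  have hn := (Subgroup.mem_normalizer_iff.1 (stab_normalizes hLG hPG hPN hT hP hconj hq hg' hS) y).1 hy
  have := mul_mem (mul_mem (⟨A, rfl⟩ : A' ∈ (lin (p := p) (F := F)).range) (T_le hn))
    (inv_mem (⟨A, rfl⟩ : A' ∈ (lin (p := p) (F := F)).range))
  simpa [mul_assoc] using this

theorem main : G ≤ Subgroup.normalizer ((lin (p := p) (F := F)).range : Set (Aut2 p F)) := by
  have key : ∀ g ∈ G, (lin (p := p) (F := F)).range ≤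
      (lin (p := p) (F := F)).range.comap (MulAut.conj g).toMonoidHom := by
    intro g hg
    refine lin_le (fun a => ?_) fun a => ?_
    · exact conj_T_le hLG hPG hPN hT hP hconj hq hg (t_mem a)
    · rw [low_mem_conj, Subgroup.mem_comap]
      have := conj_T_le hLG hPG hPN hT hP hconj hq (mul_mem hg (hLG ⟨w, rfl⟩)) (t_mem (-a))
      simpa [mul_assoc] using this
  intro g hg
  refine Subgroup.mem_normalizer_iff.2 fun y => ⟨fun hy => by simpa using key g hg hy, fun h => ?_⟩
  simpa [mul_assoc] using key g⁻¹ (inv_mem hg) h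

end Cfsg.Agent.NatSL2Sylow
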