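import Cfsg.Agent.Lib.NatSL2Sylow.Field
import Cfsg.Agent.Lib.Classical.GL2

/-!
# The unitriangular group is the only elementary abelian subgroup of its order in a Sylow normalizer
-/

set_option autoImplicit false
set_option linter.unusedSectionVars false
set_option linter.style.haveILetI false

namespace Cfsg.Agent.NatSL2Sylow

open Matrix
open Cfsg.Agent.Components.NaturalSL2

variable {p : ℕ} [hp : Fact p.Prime] {F : Type} [Field F] [Fintype F] [Algebra (ZMod p) F]

theorem charP (p : ℕ) [Fact p.Prime] (F : Type) [Field F] [Algebra (ZMod p) F] : CharP F p :=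
  charP_of_injective_algebraMap (algebraMap (ZMod p) F).injective p

theorem card_F : Nat.card F = p ^ Module.finrank (ZMod p) F := by
  rw [Module.natCard_eq_pow_finrank (K := ZMod p), Nat.card_zmod]

instance : Finite (Aut2 p F) :=
  Finite.of_injective (fun f : Aut2 p F => (f : (Fin 2 → F) → (Fin 2 → F))) DFunLike.coe_injective

theorem T_isPGroup : IsPGroup p (T p F) :=
  IsPGroup.of_card (card_T.trans card_F)

theorem inf_range {P : Subgroup (Aut2 p F)} (hP : IsPGroup p P) (hT : T p F ≤ P) :
    P ⊓ (lin (p := p) (F := F)).range = T p F := by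
  refine (Subgroup.eq_of_le_of_card_ge (le_inf hT T_le) ?_).symm
  obtain ⟨k, hk⟩ := IsPGroup.iff_card.1 (hP.to_le (inf_le_left : P ⊓ (lin (p := p) (F := F)).range ≤ P))
  have hdvd := Subgroup.card_dvd_of_le (inf_le_right : P ⊓ (lin (p := p) (F := F)).range ≤ _)
  rw [← Nat.card_congr (MonoidHom.ofInjective lin_injective).toEquiv, Classical.GL2.natCard_SL_two,
    ← Nat.card_eq_fintype_card] at hdvd
  have hpF : p ∣ Nat.card F := by
    haveI := charP p F
    rw [Nat.card_eq_fintype_card]
    exact Classical.GL2.dvd_card p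
  have hone : 1 < Nat.card F := by rw [Nat.card_eq_fintype_card]; exact Fintype.one_lt_card
  have hco : Nat.Coprime (p ^ k) ((Nat.card F - 1) * (Nat.card F + 1)) := by
    refine Nat.Coprime.pow_left k ((Nat.Prime.coprime_iff_not_dvd hp.out).2 fun h => ?_)
    rcases (Nat.Prime.dvd_mul hp.out).1 h with h | h
    · have h1 := Nat.dvd_sub hpF h
      rw [Nat.sub_sub_self hone.le] at h1
      exact hp.out.not_dvd_one h1
    · exact hp.out.not_dvd_one ((Nat.dvd_add_right hpF).1 h)
  rw [hk] at hdvd ⊢
  rw [card_T]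
  exact Nat.le_of_dvd (by omega) (hco.dvd_of_dvd_mul_right hdvd)

theorem le_NT {P : Subgroup (Aut2 p F)} (hP : IsPGroup p P) (hT : T p F ≤ P)
    (hPN : P ≤ Subgroup.normalizer ((lin (p := p) (F := F)).range : Set (Aut2 p F))) :
    P ≤ NT p F := by
  intro x hx
  refine ⟨hPN hx, Subgroup.mem_normalizer_iff.2 fun y => ?_⟩
  rw [← inf_range hP hT, Subgroup.mem_inf, Subgroup.mem_inf]
  refine and_congr ⟨fun h => mul_mem (mul_mem hx h) (inv_mem hx), fun h => ?_⟩
    (Subgroup.mem_normalizer_iff.1 (hPN hx) y)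
  have := mul_mem (mul_mem (inv_mem hx) h) hx
  simpa [mul_assoc] using this

theorem exponent_gal {A : Subgroup (Aut2 p F)} (hexp : ∀ x ∈ A, x ^ p = 1) (f : A →* (F ≃ₐ[ZMod p] F)) :
    Nat.card f.range ∣ p := by
  rw [← IsCyclic.exponent_eq_card]
  refine Monoid.exponent_dvd_of_forall_pow_eq_one fun y => ?_
  obtain ⟨x, hx⟩ := y.2
  refine Subtype.ext ?_
  rw [SubmonoidClass.coe_pow, ← hx, ← map_pow, show x ^ p = 1 from Subtype.ext (hexp x x.2), map_one]
  rfl

theorem unique {P : Subgroup (Aut2 p F)} (hP : IsPGroup p P) (hT : T p F ≤ P)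
    (hPN : P ≤ Subgroup.normalizer ((lin (p := p) (F := F)).range : Set (Aut2 p F)))
    (hq : Nat.card F ≠ 4 ∨ P = T p F)
    {R : Subgroup (Aut2 p F)} (hR : R ≤ P) (hcomm : ∀ x ∈ R, ∀ y ∈ R, x * y = y * x)
    (hexp : ∀ x ∈ R, x ^ p = 1) (hcard : Nat.card R = Nat.card F) : R = T p F := by
  have hle_eq : R ≤ T p F → R = T p F := fun h =>
    Subgroup.eq_of_le_of_card_ge h (by rw [card_T, hcard])
  rcases hq with hq | rfl
  swap
  · exact hle_eq hR
  refine hle_eq fun r hr => by_contra fun hrT => ?_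
  have hNT := le_NT hP hT hPN
  set f : R →* (F ≃ₐ[ZMod p] F) := galHom.comp (Subgroup.inclusion (hR.trans hNT)) with hf
  have hker : ∀ x : R, f x = 1 → (x : Aut2 p F) ∈ T p F := fun x hx =>
    mem_T_of_galHom _ ⟨1, by rw [pow_one]; exact hexp x x.2⟩ hx
  have hσ : f ⟨r, hr⟩ ≠ 1 := fun h => hrT (hker _ h)
  set σ := f ⟨r, hr⟩ with hσdef
  -- the fixed field of `σ`
  let K : Set F := {x | σ x = x}
  have hK : Nat.card K * Nat.card K ≤ Nat.card F := by
    obtain ⟨x, hx⟩ : ∃ x, σ x ≠ x := by
      by_contra h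
      push Not at h
      exact hσ (AlgEquiv.ext h)
    rw [← Nat.card_prod]
    refine Nat.card_le_card_of_injective (fun k : K × K => (k.1 : F) + k.2 * x) fun k l h => ?_
    simp only at h
    by_cases he : (k.2 : F) = l.2
    · rw [he] at h
      exact Prod.ext (Subtype.ext (add_right_cancel h)) (Subtype.ext he)
    · refine absurd ?_ hx
      have hxe : x = ((l.1 : F) - k.1) / (k.2 - l.2) := by
        rw [eq_div_iff (sub_ne_zero.2 he)]
        linear_combination h
      rw [hxe, map_div₀, map_sub, map_sub, k.1.2, k.2.2, l.1.2, l.2.2]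
  have hkerK : Nat.card f.ker ≤ Nat.card K := by
    by_cases h0 : ∃ a0 : F, a0 ≠ 0 ∧ t p a0 ∈ R
    · obtain ⟨a0, ha0, ha0R⟩ := h0
      have hex : ∀ x : f.ker, ∃ a, t p a = ((x : R) : Aut2 p F) := fun x => mem_T.1 (hker _ x.2)
      choose a ha using hex
      have hfix : ∀ b, t p b ∈ R → σ b = b * (nu r 1 / omega r 1) := by
        intro b hb
        have h1 := omega_theta (hR.trans hNT hr) (a := b) (a' := b) (by
          rw [hcomm r hr _ hb, mul_inv_cancel_right]) 1
        rw [mul_one] at h1
        rw [hσdef, hf, MonoidHom.comp_apply, galHom_apply]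
        show omega r b / omega r 1 = _
        rw [h1, mul_div_assoc]
      have hc : nu r 1 / omega r 1 ≠ 0 := fun h => by
        have := hfix a0 ha0R
        rw [h, mul_zero, map_eq_zero] at this
        exact ha0 this
      have hin : ∀ x : f.ker, a x / a0 ∈ K := fun x => by
        show σ (a x / a0) = a x / a0
        rw [map_div₀, hfix _ (by rw [ha]; exact (x : R).2), hfix _ ha0R, mul_div_mul_right _ _ hc]
      refine Nat.card_le_card_of_injective (fun x : f.ker => (⟨a x / a0, hin x⟩ : K)) fun x y h => ?_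
      have h' : a x = a y := (div_left_inj' ha0).1 (congrArg Subtype.val h)
      exact Subtype.ext (Subtype.ext (by rw [← ha x, ← ha y, h']))
    · push Not at h0
      have : Subsingleton f.ker := ⟨fun x y => by
        have key : ∀ z : f.ker, ((z : R) : Aut2 p F) = 1 := fun z => by
          obtain ⟨b, hb⟩ := mem_T.1 (hker _ z.2)
          by_cases hb0 : b = 0
          · rw [← hb, hb0, t_zero]
          · exact absurd (hb ▸ (z : R).2) (h0 b hb0)
        exact Subtype.ext (Subtype.ext ((key x).trans (key y).symm))⟩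
      rw [Nat.card_of_subsingleton (1 : f.ker)]
      haveI : Nonempty K := ⟨⟨0, map_zero σ⟩⟩
      exact Nat.card_pos
  have hmul := f.ker.card_mul_index
  rw [Subgroup.index_ker, hcard] at hmul
  have hrange := exponent_gal hexp f
  have hrange1 : Nat.card f.range ≠ 1 := fun h => hσ (by
    have h1 : f.range = ⊥ := Subgroup.card_eq_one.1 h
    exact Subgroup.mem_bot.1 (h1 ▸ ⟨_, rfl⟩))
  rcases (Nat.dvd_prime hp.out).1 hrange with h | h
  · exact hrange1 h
  have hcardgal : Nat.card f.range ∣ Module.finrank (ZMod p) F := by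
    rw [← card_gal]
    exact Subgroup.card_subgroup_dvd_card _
  rw [h] at hmul hcardgal
  have hq2 : Nat.card F ≤ p * p := by
    have h1 : Nat.card F ≤ p * Nat.card K := by
      rw [← hmul, mul_comm p]
      exact Nat.mul_le_mul_right p hkerK
    by_contra hlt
    push Not at hlt
    nlinarith
  refine hq ?_
  rw [card_F (p := p)] at hq2 ⊢
  rw [← pow_two] at hq2
  have he : Module.finrank (ZMod p) F ≤ 2 := (Nat.pow_le_pow_iff_right hp.out.one_lt).1 hq2
  have hpos : 0 < Module.finrank (ZMod p) F := Module.finrank_pos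
  have hple := Nat.le_of_dvd hpos hcardgal
  have hp2 : p = 2 := le_antisymm (hple.trans he) hp.out.two_le
  rw [show Module.finrank (ZMod p) F = 2 by omega, hp2]
  norm_num

end Cfsg.Agent.NatSL2Sylow
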